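import Cfsg.Agent.H148.HT.DatD4

/-!
# S4933, `³D₄(q)`, `3 ∣ q + 1`: orders (helper148)

* `card_U`, `card_T0`, `card_LL`, `card_PP`, `index_PP`.
-/

set_option autoImplicit false

namespace Cfsg.Agent.H148.HT

open Cfsg.Agent.SplitTwo Cfsg.Agent.TitsThree.RankTwoZ Cfsg.Agent.Lib.SL2Mat Cfsg.Agent.TitsThree.RankTwoIdx
  Cfsg.Agent.TitsThree.RankTwoRGD Cfsg.Agent.Cit.HexBase
  Cfsg.Agent.Cit.HexBase.HexGrp Cfsg.Agent.H148.SLTwo Cfsg.Agent.H148.Hex Cfsg.Agent.H912.HT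

universe u

variable {E : Type*} [Field E] {σ : E ≃+* E} {L : Type u} [Group L] (c : HexGrp σ L)

/-! ### The radical -/

theorem mem_U_of (x : (E × E) × ((↥(fx σ) × E) × ↥(fx σ))) :
    c.x5 x.1.1 * c.x1 x.1.2 * (c.x2 x.2.1.1 * c.x3 x.2.1.2 * c.x4 x.2.2) ∈ Sg c.X Qb :=
  W.mem (a5 := x.1.1) (a1 := x.1.2)
    ⟨_, V.mem (t2 := (x.2.1.1 : E)) (b := x.2.1.2) (t4 := (x.2.2 : E)) ⟨x.2.1.1.2, x.2.2.2, rfl⟩, rfl⟩

theorem bij_U : Function.Bijective (fun x : (E × E) × ((↥(fx σ) × E) × ↥(fx σ)) =>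
    (⟨c.x5 x.1.1 * c.x1 x.1.2 * (c.x2 x.2.1.1 * c.x3 x.2.1.2 * c.x4 x.2.2), mem_U_of c x⟩ : ↥(Sg c.X Qb))) := by
  constructor
  · rintro ⟨⟨a5, a1⟩, ⟨⟨t2, b⟩, t4⟩⟩ ⟨⟨b5, b1⟩, ⟨⟨s2, d⟩, s4⟩⟩ h
    have h1 : c.x5 a5 * c.x1 a1 * (c.x2 t2 * c.x3 b * c.x4 t4) =
      c.x5 b5 * c.x1 b1 * (c.x2 s2 * c.x3 d * c.x4 s4) := congrArg Subtype.val h
    have v1 : V c (c.x2 t2 * c.x3 b * c.x4 t4) t2 b t4 := ⟨t2.2, t4.2, rfl⟩
    have v2 : V c (c.x2 s2 * c.x3 d * c.x4 s4) s2 d s4 := ⟨s2.2, s4.2, rfl⟩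
    have w1 : W c (c.x5 a5 * c.x1 a1 * (c.x2 t2 * c.x3 b * c.x4 t4)) a5 a1 := ⟨_, v1.mem, rfl⟩
    have w2 : W c (c.x5 a5 * c.x1 a1 * (c.x2 t2 * c.x3 b * c.x4 t4)) b5 b1 := ⟨_, v2.mem, h1⟩
    obtain ⟨e5, e1⟩ := w1.unique w2
    subst e5 e1
    have h2 := mul_left_cancel h1
    obtain ⟨e2, e3, e4⟩ := v1.unique (v2.congr h2.symm rfl rfl rfl)
    have e2' : t2 = s2 := Subtype.ext e2
    have e4' : t4 = s4 := Subtype.ext e4
    rw [e2', e3, e4']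
  · rintro ⟨g, hg⟩
    obtain ⟨a5, a1, k, hk, rfl⟩ := exists_W c hg
    obtain ⟨t2, b, t4, h2, h4, rfl⟩ := exists_V c hk
    exact ⟨⟨⟨a5, a1⟩, ⟨⟨⟨t2, h2⟩, b⟩, ⟨t4, h4⟩⟩⟩, rfl⟩

theorem card_U : Nat.card ↥(Sg c.X Qb) = Nat.card E ^ 3 * Nat.card ↥(fx σ) ^ 2 := by
  rw [← Nat.card_congr (Equiv.ofBijective _ (bij_U c)), Nat.card_prod, Nat.card_prod, Nat.card_prod, Nat.card_prod]
  ring

/-! ### The torus -/

/-- the element of the torus with parameters `c1`, `c6` -/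
noncomputable def tor [Finite E] (x : Eˣ × (↥(fx σ))ˣ) : L :=
  (Cfsg.Agent.H384.RG.HexB.exists_act' c x.1.ne_zero (coe_ne' x.2.ne_zero) (x.2 : ↥(fx σ)).2).choose

theorem tor_act [Finite E] (x : Eˣ × (↥(fx σ))ˣ) : c.Act (tor c x) x.1 ((x.2 : ↥(fx σ)) : E) :=
  (Cfsg.Agent.H384.RG.HexB.exists_act' c x.1.ne_zero (coe_ne' x.2.ne_zero) (x.2 : ↥(fx σ)).2).choose_spec

variable {c} in
/-- the parameters are determined by the element -/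
theorem act_uniq {g : L} {c1 c6 d1 d6 : E} (h : c.Act g c1 c6) (h' : c.Act g d1 d6) : c1 = d1 ∧ c6 = d6 := by
  have e1 := (h.a1 1).symm.trans (h'.a1 1)
  have e6 := (h.a6 1 (map_one σ)).symm.trans (h'.a6 1 (map_one σ))
  rw [mul_one, mul_one] at e1 e6
  exact ⟨c.x1_inj e1, c.x6_inj h.fix h'.fix e6⟩

theorem bij_T0 [Finite E] : Function.Bijective (fun x : Eˣ × (↥(fx σ))ˣ => (⟨tor c x, _, _, tor_act c x⟩ : ↥c.T0)) := by
  constructor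
  · rintro ⟨a, b⟩ ⟨a', b'⟩ h
    have h1 : tor c (a, b) = tor c (a', b') := congrArg Subtype.val h
    have h2 := tor_act c (a, b)
    rw [h1] at h2
    obtain ⟨e1, e2⟩ := act_uniq h2 (tor_act c (a', b'))
    exact Prod.ext (Units.ext e1) (Units.ext (Subtype.ext e2))
  · rintro ⟨g, c1, c6, h⟩
    refine ⟨(Units.mk0 c1 h.ne1, Units.mk0 ⟨c6, h.fix⟩ fun e => h.ne6 (congrArg Subtype.val e)), Subtype.ext ?_⟩
    exact (tor_act c _).unique h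

theorem card_T0 [Finite E] : Nat.card ↥c.T0 = (Nat.card E - 1) * (Nat.card ↥(fx σ) - 1) := by
  rw [← Nat.card_congr (Equiv.ofBijective _ (bij_T0 c)), Nat.card_prod, Nat.card_units, Nat.card_units]

/-! ### The Levi complement -/

theorem diag_of_mem {m : SL2 ↥(fx σ)} (h : c.pa m ∈ c.T0) : ent m 0 1 = 0 ∧ ent m 1 0 = 0 := by
  obtain ⟨c1, c6, h⟩ := h
  have h1 := (W.pa (w1 (c := c) 1) m).unique ((w1 (c := c) 1).act h)
  have h5 := (W.pa (w5 (c := c) 1) m).unique ((w5 (c := c) 1).act h)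
  constructor
  · have := h1.1
    simp only [mul_zero, mul_one, zero_add] at this
    exact Subtype.ext this
  · have := h5.2
    simp only [mul_zero, mul_one, add_zero] at this
    exact Subtype.ext this

theorem eq_dg {K : Type*} [Field K] {m : SL2 K} (h1 : ent m 0 1 = 0) (h2 : ent m 1 0 = 0) :
    ∃ h : ent m 0 0 ≠ 0, m = dg (ent m 0 0) h := by
  have hd := det_eq m
  rw [h1, zero_mul, sub_zero] at hd
  have h0 : ent m 0 0 ≠ 0 := by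
    intro h
    rw [h, zero_mul] at hd
    exact zero_ne_one hd
  refine ⟨h0, ext_ent ?_ ?_ ?_ ?_⟩
  · rw [dg_00]
  · rw [dg_01, h1]
  · rw [dg_10, h2]
  · rw [dg_11]
    exact eq_inv_of_mul_eq_one_right hd

theorem pa_inj {m n : SL2 ↥(fx σ)} (h : c.pa m = c.pa n) : m = n := by
  have h0 : c.pa (m * n⁻¹) = 1 := by rw [map_mul, map_inv, h, mul_inv_cancel]
  have h1 : c.pa (m * n⁻¹) ∈ c.T0 := by rw [h0]; exact one_mem _
  obtain ⟨e1, e2⟩ := diag_of_mem c h1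
  obtain ⟨hne, e3⟩ := eq_dg e1 e2
  have h2 := (W.pa (w5 (c := c) 1) (m * n⁻¹)).congr (by rw [h0, one_mul, inv_one, mul_one]) rfl rfl
  have h3 := (h2.unique (w5 (c := c) 1)).1
  have h4 : ent (m * n⁻¹) 0 0 = 1 := by
    apply Subtype.ext
    simpa using h3
  have h5 : m * n⁻¹ = 1 := by
    refine ext_ent ?_ ?_ ?_ ?_
    · rw [h4]; simp
    · rw [e1]; simp
    · rw [e2]; simp
    · rw [e3, dg_11, h4]; simp
  exact mul_inv_eq_one.1 h5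

theorem LL_choose (l : ↥(LL c)) : ∃ x : SL2 ↥(fx σ) × ↥c.T0, (l : L) = c.pa x.1 * x.2 := by
  obtain ⟨l, y, t, ht, rfl⟩ := l
  exact ⟨(y, ⟨t, ht⟩), rfl⟩

/-- a factorisation -/
noncomputable def lf (l : ↥(LL c)) : SL2 ↥(fx σ) × ↥c.T0 := (LL_choose c l).choose

theorem lf_eq (l : ↥(LL c)) : (l : L) = c.pa (lf c l).1 * (lf c l).2 := (LL_choose c l).choose_spec

/-- the diagonal torus of `pa SL₂(F)` -/
def dgT (s : (↥(fx σ))ˣ) : ↥c.T0 := ⟨c.pa (dg (s : ↥(fx σ)) s.ne_zero), _, _, c.act_a s s.ne_zero⟩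

theorem bij_LL : Function.Bijective (fun x : ↥(LL c) × (↥(fx σ))ˣ =>
    (((lf c x.1).1 * dg (x.2 : ↥(fx σ)) x.2.ne_zero, (dgT c x.2)⁻¹ * (lf c x.1).2) : SL2 ↥(fx σ) × ↥c.T0)) := by
  constructor
  · rintro ⟨l, s⟩ ⟨l', s'⟩ h
    obtain ⟨e1, e2⟩ := Prod.mk.inj h
    have k : ∀ (l : ↥(LL c)) (s : (↥(fx σ))ˣ), (l : L) = c.pa ((lf c l).1 * dg (s : ↥(fx σ)) s.ne_zero) *
        (((dgT c s)⁻¹ * (lf c l).2 : ↥c.T0) : L) := by
      intro l s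
      have h1 : ((dgT c s : ↥c.T0) : L) = c.pa (dg (s : ↥(fx σ)) s.ne_zero) := rfl
      rw [Subgroup.coe_mul, Subgroup.coe_inv, h1, map_mul]
      conv_lhs => rw [lf_eq c l]
      group
    have hl : l = l' := by
      apply Subtype.ext
      rw [k l s, k l' s']
      simp only at e1 e2
      rw [e1, e2]
    subst hl
    have e3 := mul_left_cancel e1
    have e4 : (s : ↥(fx σ)) = s' := by
      have h7 := congrArg (fun m => ent m 0 0) e3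
      simp only [dg_00] at h7
      exact h7
    rw [Units.ext e4]
  · rintro ⟨y, t⟩
    obtain ⟨l, hl⟩ : ∃ l : ↥(LL c), (l : L) = c.pa y * t := ⟨⟨_, y, t, t.2, rfl⟩, rfl⟩
    have h1 := lf_eq c l
    have h2 : c.pa ((lf c l).1⁻¹ * y) = ((lf c l).2 : L) * (t : L)⁻¹ := by
      rw [map_mul, map_inv]
      have h3 : c.pa y = c.pa (lf c l).1 * (lf c l).2 * (t : L)⁻¹ := by
        rw [← h1, hl]
        group
      rw [h3]
      group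
    have h3 : c.pa ((lf c l).1⁻¹ * y) ∈ c.T0 := by
      rw [h2]
      exact mul_mem (lf c l).2.2 (inv_mem t.2)
    obtain ⟨e1, e2⟩ := diag_of_mem c h3
    obtain ⟨hne, e3⟩ := eq_dg e1 e2
    refine ⟨(l, Units.mk0 _ hne), Prod.ext ?_ ?_⟩
    · change (lf c l).1 * dg (ent ((lf c l).1⁻¹ * y) 0 0) hne = y
      rw [← e3, mul_inv_cancel_left]
    · apply Subtype.ext
      change (c.pa (dg (ent ((lf c l).1⁻¹ * y) 0 0) hne))⁻¹ * ((lf c l).2 : L) = t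
      rw [← e3, h2]
      group

theorem card_LL [Finite E] (hq : 2 ≤ Nat.card ↥(fx σ)) : Nat.card ↥(LL c) =
    Nat.card (SL2 ↥(fx σ)) * (Nat.card E - 1) := by
  have h := Nat.card_congr (Equiv.ofBijective _ (bij_LL c))
  rw [Nat.card_prod, Nat.card_prod, Nat.card_units, card_T0, ← mul_assoc] at h
  exact Nat.eq_of_mul_eq_mul_right (by omega) h

/-! ### The parabolic subgroup -/

theorem LL_cap [Finite E] {g : L} (h1 : g ∈ LL c) (h2 : g ∈ Sg c.X Qb) : g = 1 := by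
  refine opp c h2 ?_
  have h3 := comm_n3 c h1
  have h4 : n3 c * g * (n3 c)⁻¹ = n3 c * g * (n3 c)⁻¹ * g⁻¹ * g := by group
  rw [h4]
  exact mul_mem (T0_le_PP c (CC_le_T0 c h3)) (LL_le_PP c h1)

theorem bij_PP [Finite E] : Function.Bijective (fun x : ↥(Sg c.X Qb) × ↥(LL c) =>
    (⟨x.1 * x.2, x.1, x.1.2, x.2, x.2.2, rfl⟩ : ↥(PP c))) := by
  constructor
  · rintro ⟨⟨u, hu⟩, ⟨l, hl⟩⟩ ⟨⟨u', hu'⟩, ⟨l', hl'⟩⟩ h
    have h1 : u * l = u' * l' := congrArg Subtype.val h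
    have h2 : u'⁻¹ * u = l' * l⁻¹ := by
      calc u'⁻¹ * u = u'⁻¹ * (u * l) * l⁻¹ := by group
        _ = _ := by rw [h1]; group
    have h3 := LL_cap c (g := u'⁻¹ * u) (by rw [h2]; exact mul_mem hl' (inv_mem hl)) (mul_mem (inv_mem hu') hu)
    have h4 : u' = u := inv_mul_eq_one.1 h3
    subst h4
    have h5 := mul_left_cancel h1
    subst h5
    rfl
  · rintro ⟨g, u, hu, l, hl, rfl⟩
    exact ⟨(⟨u, hu⟩, ⟨l, hl⟩), rfl⟩

theorem card_PP [Finite E] : Nat.card ↥(PP c) = Nat.card ↥(Sg c.X Qb) * Nat.card ↥(LL c) := by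
  rw [← Nat.card_congr (Equiv.ofBijective _ (bij_PP c)), Nat.card_prod]

end Cfsg.Agent.H148.HT
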