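import Cfsg.Agent.H148.HT.DatDef

/-!
# S4933, `³D₄(q)`, `3 ∣ q + 1`: the parabolic subgroup `P`, its opposite and its double cosets (helper148)

* `dat : Dat (PP c) (Sg c.X Qb) (LL c) (CC c) (n3 c)`;
* `cells` : if `g` is neither in `P` nor in `P n3 P`, some `P`-conjugate of `X 6` is mapped into `U` by `g⁻¹`.
-/

set_option autoImplicit false

namespace Cfsg.Agent.H148.HT

open Cfsg.Agent.SplitTwo Cfsg.Agent.TitsThree.RankTwoZ Cfsg.Agent.Lib.SL2Mat Cfsg.Agent.TitsThree.RankTwoIdx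
  Cfsg.Agent.TitsThree.RankTwoRGD Cfsg.Agent.Cit.HexBase
  Cfsg.Agent.Cit.HexBase.HexGrp Cfsg.Agent.H148.SLTwo Cfsg.Agent.H148.Hex Cfsg.Agent.H912.HT

universe u

variable {E : Type*} [Field E] {σ : E ≃+* E} {L : Type u} [Group L] (c : HexGrp σ L)

/-! ### The opposite parabolic subgroup -/

theorem n3_sq : n3 c * n3 c ∈ CC c := by
  have e : n3 c * n3 c = c.n1 * c.n6 * c.pb (dg (-1) (neg_ne_zero.2 one_ne_zero)) * (c.n1 * c.n6)⁻¹ := by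
    rw [← p3_apply, n3, ← map_mul]
    congr 1
    refine ext_ent ?_ ?_ ?_ ?_ <;> simp [ent_mul]
  rw [e]
  refine ⟨_, (c.act_b (-1) (neg_ne_zero.2 one_ne_zero)).rot.congr rfl rfl ?_⟩
  rw [nrm_neg, nrm_one]
  have : ((-1 : E)) ^ 2 = 1 := by ring
  rw [this, nrm_one]
  norm_num

theorem comm_n3 {l : L} (hl : l ∈ LL c) : n3 c * l * (n3 c)⁻¹ * l⁻¹ ∈ CC c := by
  obtain ⟨y, t, ⟨c1, c6, ht⟩, rfl⟩ := hl
  have h1 := comm_pa_n3 c y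
  have h2 : n3 c * t * (n3 c)⁻¹ * t⁻¹ ∈ CC c := ⟨_, ((Cfsg.Agent.H148.Hex.Act.n3 ht).mul ht.inv).congr rfl rfl (mul_inv_cancel₀ ht.ne6)⟩
  have h3 := CC_comm_LL c h2 (pa_mem_LL c y)
  have h4 : n3 c * (c.pa y * t) * (n3 c)⁻¹ * (c.pa y * t)⁻¹ =
      (n3 c * c.pa y * (n3 c)⁻¹) * (n3 c * t * (n3 c)⁻¹ * t⁻¹) * (c.pa y)⁻¹ := by group
  rw [h4, h1, h3]
  exact h2

theorem n3_Qb {u : L} (hu : u ∈ Sg c.X Qb) : n3 c * u * (n3 c)⁻¹ ∈ Sg c.X Qb' :=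
  conj_Sg (maps_n3 c) (by decide +kernel) hu

theorem opp_aux [Finite E] {v u' t : L} (hv : v ∈ Sg c.X Qb') (hu' : u' ∈ Sg c.X Qb) (ht : t ∈ c.T0)
    (y : SL2 ↥(fx σ)) (hy : ent y 0 0 ≠ 0) (e : v = u' * (c.pa y * t)) : v = 1 := by
  obtain ⟨a, s, hs, b, hab⟩ := ldu_pa (c := c) hy
  obtain ⟨k, hk⟩ : ∃ k, k = c.pa (lo a) := ⟨_, rfl⟩
  have hτ : c.pa (dg s hs) * t ∈ c.T0 := mul_mem ⟨_, _, c.act_a s hs⟩ ht
  obtain ⟨τ, hτe⟩ : ∃ τ, τ = c.pa (dg s hs) * t := ⟨_, rfl⟩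
  rw [← hτe] at hτ
  -- the positive part
  have hp1 : k⁻¹ * u' * k ∈ Sg c.X Pos := by
    have := Cfsg.Agent.H384.RG.HexB.pa_Qb_conj (c := c) (lo a)⁻¹ hu'
    rw [map_inv, inv_inv, ← hk] at this
    exact Sg_mono (by decide +kernel) this
  have hp2 : t⁻¹ * c.pa (up b) * t ∈ Sg c.X Pos := by
    have h6 : c.pa (up b) ∈ Sg c.X Pos := by
      rw [c.pa_up]
      exact c.sg (by decide) (c.mem6 b.2)
    have := c.T0_conj (inv_mem ht) h6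
    rwa [inv_inv] at this
  have hp3 : τ * (t⁻¹ * c.pa (up b) * t) * τ⁻¹ ∈ Sg c.X Pos := c.T0_conj hτ hp2
  have hn1 : k⁻¹ * v ∈ Sg c.X HexGrp.Neg := by
    refine mul_mem (inv_mem ?_) (Sg_mono (by decide +kernel) hv)
    rw [hk]
    exact c.sg (by decide) ((c.pa_lo _).2 ⟨a, rfl⟩)
  have e1 : k⁻¹ * v = k⁻¹ * u' * k * (τ * (t⁻¹ * c.pa (up b) * t) * τ⁻¹) * τ := by
    rw [e, hab, ← hk, hτe]
    group
  obtain ⟨p, hp⟩ : ∃ p, p = k⁻¹ * u' * k * (τ * (t⁻¹ * c.pa (up b) * t) * τ⁻¹) := ⟨_, rfl⟩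
  rw [← hp] at e1
  have hpm : p ∈ Sg c.X Pos := by rw [hp]; exact mul_mem hp1 hp3
  obtain ⟨s', hs', t', ht', e2⟩ := Cfsg.Agent.H384.RG.HexB.exists_of_mem_T0 c (inv_mem hτ)
  have e3 : p = c.pb (dg s' hs') * c.pa (dg t' ht') * (τ * (k⁻¹ * v) * τ⁻¹) := by
    rw [← e2, e1]
    group
  have h1 := (c.tri p hpm _ (c.T0_conj hτ hn1) s' hs' t' ht' e3).2
  have h2 : k⁻¹ * v = 1 := by
    have h3 : τ * (k⁻¹ * v) = τ := mul_inv_eq_one.1 h1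
    exact mul_eq_left.1 h3
  have h3 : v = k := (inv_mul_eq_one.1 h2).symm
  refine c.eq_one_of_mem (k := 0) (s := Qb') (by decide +kernel) ?_ hv
  rw [h3, hk]
  exact (c.pa_lo _).2 ⟨a, rfl⟩

theorem opp [Finite E] {u : L} (hu : u ∈ Sg c.X Qb) (h : n3 c * u * (n3 c)⁻¹ ∈ PP c) : u = 1 := by
  obtain ⟨u', hu', l, ⟨y, t, ht, rfl⟩, e⟩ := h
  have fin : ∀ {x g : L}, x * g * x⁻¹ = 1 → g = 1 := fun {x g} h => by
    have h3 : x * g = x := mul_inv_eq_one.1 h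
    exact mul_eq_left.1 h3
  by_cases hy : ent y 0 0 = 0
  · obtain ⟨k, hk⟩ : ∃ k, k = c.pa (up 1) := ⟨_, rfl⟩
    have hkn : n3 c * k * (n3 c)⁻¹ = k := by rw [hk]; exact comm_pa_n3 c _
    have hkn' : k * n3 c = n3 c * k := (mul_inv_eq_iff_eq_mul.1 hkn).symm
    obtain ⟨c1, c6, h6⟩ := ht
    have h7 := h6.a6 (-1) (by rw [map_neg, map_one])
    have hk' : k⁻¹ = c.x6 (-1) := by
      rw [hk, c.pa_up, c.x6_neg (map_one σ)]
      rfl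
    have hc : σ (c6 * -1) = c6 * -1 := mul_fix h6.fix (by rw [map_neg, map_one])
    have h8 : t * k⁻¹ * t⁻¹ = c.pa (up ⟨c6 * -1, hc⟩) := by rw [hk', h7, c.pa_up]
    have hv : n3 c * (k * u * k⁻¹) * (n3 c)⁻¹ ∈ Sg c.X Qb' :=
      n3_Qb c (by rw [hk]; exact Cfsg.Agent.H384.RG.HexB.pa_Qb_conj (c := c) _ hu)
    have hu2 : k * u' * k⁻¹ ∈ Sg c.X Qb := by rw [hk]; exact Cfsg.Agent.H384.RG.HexB.pa_Qb_conj (c := c) _ hu'
    have e4 : n3 c * (k * u * k⁻¹) * (n3 c)⁻¹ = k * u' * k⁻¹ * (c.pa (up 1 * y * up ⟨c6 * -1, hc⟩) * t) := by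
      calc n3 c * (k * u * k⁻¹) * (n3 c)⁻¹ = (n3 c * k) * u * (n3 c * k)⁻¹ := by group
        _ = k * (n3 c * u * (n3 c)⁻¹) * k⁻¹ := by rw [← hkn']; group
        _ = k * u' * k⁻¹ * (k * c.pa y * (t * k⁻¹ * t⁻¹) * t) := by rw [e]; group
        _ = _ := by rw [h8, map_mul, map_mul, hk]
    have hdet := det_eq y
    have h10 : ent y 1 0 ≠ 0 := by
      intro h1
      rw [hy, h1] at hdet
      simp at hdet
    have h1 := opp_aux c hv hu2 ⟨_, _, h6⟩ _ (by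
      rw [ent_mul, ent_mul, ent_mul, up_00, up_01, up_00, up_10, hy]
      simpa using h10) e4
    have h2 := fin h1
    exact fin h2
  · exact fin (opp_aux c (n3_Qb c hu) hu' ht y hy e)

/-- **the group theoretic situation** -/
theorem dat [Finite E] : Dat (PP c) (Sg c.X Qb) (LL c) (CC c) (n3 c) where
  U_le := U_le_PP c
  L_le := LL_le_PP c
  C_le := (CC_le_T0 c).trans (T0_le_LL c)
  norm := fun _ hp _ hu => PP_norm c hp hu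
  normC := fun l hl x hx => by rw [CC_comm_LL c hx hl]; exact hx
  prod := fun _ hp => hp
  comm := fun _ hl => comm_n3 c hl
  sq := n3_sq c
  opp := fun _ hu h => opp c hu h

/-! ### The double cosets -/

theorem n1_long : c.n1 * (c.n6 * (c.n1 * (c.n6 * c.n1))) = n3 c * (c.n1 * (c.n6 * c.n6) * c.n1⁻¹ * (c.n1 * c.n1)) := by
  rw [n3_eq]
  group

theorem long_T0 : c.n1 * (c.n6 * c.n6) * c.n1⁻¹ * (c.n1 * c.n1) ∈ c.T0 := by
  obtain ⟨c1, c6, h⟩ := n6_sq (c := c)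
  exact mul_mem ⟨_, _, h.n1⟩ n1_sq

theorem alt_cases {w : L} {f : ZMod (2 * 6) → ZMod (2 * 6)} (h : c.IsRep w f) :
    ∃ a ∈ PP c, ∃ m, (m = 1 ∨ m = c.n1 ∨ m = c.n1 * (c.n6 * c.n1) ∨ m = c.n1 * (c.n6 * (c.n1 * (c.n6 * c.n1)))) ∧
      ∃ b ∈ PP c, w = a * m * b := by
  have k6 := n6_mem_PP c
  have k1 : (1 : L) ∈ PP c := one_mem _
  obtain ⟨r, hr, ⟨rfl, -⟩ | ⟨rfl, -⟩⟩ := h
  · interval_cases r <;> try simp only [alt_succ]
    · exact ⟨1, k1, 1, Or.inl rfl, 1, k1, by simp [alt]⟩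
    · exact ⟨1, k1, _, Or.inr (Or.inl rfl), 1, k1, by simp [alt]⟩
    · exact ⟨1, k1, _, Or.inr (Or.inl rfl), c.n6, k6, by simp [alt, mul_assoc]⟩
    · exact ⟨1, k1, _, Or.inr (Or.inr (Or.inl rfl)), 1, k1, by simp [alt, mul_assoc]⟩
    · exact ⟨1, k1, _, Or.inr (Or.inr (Or.inl rfl)), c.n6, k6, by simp [alt, mul_assoc]⟩
    · exact ⟨1, k1, _, Or.inr (Or.inr (Or.inr rfl)), 1, k1, by simp [alt, mul_assoc]⟩
    · exact ⟨1, k1, _, Or.inr (Or.inr (Or.inr rfl)), c.n6, k6, by simp [alt, mul_assoc]⟩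
  · interval_cases r <;> try simp only [alt_succ]
    · exact ⟨1, k1, 1, Or.inl rfl, 1, k1, by simp [alt]⟩
    · exact ⟨c.n6, k6, _, Or.inl rfl, 1, k1, by simp [alt]⟩
    · exact ⟨c.n6, k6, _, Or.inr (Or.inl rfl), 1, k1, by simp [alt, mul_assoc]⟩
    · exact ⟨c.n6, k6, _, Or.inr (Or.inl rfl), c.n6, k6, by simp [alt, mul_assoc]⟩
    · exact ⟨c.n6, k6, _, Or.inr (Or.inr (Or.inl rfl)), 1, k1, by simp [alt, mul_assoc]⟩
    · exact ⟨c.n6, k6, _, Or.inr (Or.inr (Or.inl rfl)), c.n6, k6, by simp [alt, mul_assoc]⟩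
    · exact ⟨c.n6, k6, _, Or.inr (Or.inr (Or.inr rfl)), 1, k1, by simp [alt, mul_assoc]⟩

/-- **the small double cosets** -/
theorem cells [Finite E] {g : L} (hg : g ∉ PP c) (hB : ¬ Big (PP c) (n3 c) g) :
    ∃ a ∈ PP c, ∀ x ∈ c.X 6, g⁻¹ * (a * x * a⁻¹) * g ∈ Sg c.X Qb := by
  obtain ⟨u, hu, w, f, hw, h, hh, s, hs, -, v, hv, rfl⟩ := Cfsg.Agent.H384.RG.HexB.bruhat c g
  obtain ⟨a, ha, m, hm, b, hb, rfl⟩ := alt_cases c hw
  have hua : u * a ∈ PP c := mul_mem (Pos_le_PP c hu) ha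
  have hbv : b * h * v ∈ PP c := mul_mem (mul_mem hb (T0_le_PP c hh)) (Pos_le_PP c (Sg_mono hs hv))
  have key : ∀ x, (m⁻¹ * x * m) ∈ Sg c.X Qb →
      (u * (a * m * b) * h * v)⁻¹ * ((u * a) * x * (u * a)⁻¹) * (u * (a * m * b) * h * v) ∈ Sg c.X Qb := by
    intro x hx
    have h1 := PP_norm c (inv_mem hbv) hx
    have h2 : (u * (a * m * b) * h * v)⁻¹ * ((u * a) * x * (u * a)⁻¹) * (u * (a * m * b) * h * v) =
        (b * h * v)⁻¹ * (m⁻¹ * x * m) * (b * h * v)⁻¹⁻¹ := by group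
    rw [h2]
    exact h1
  rcases hm with rfl | rfl | rfl | rfl
  · exact absurd (by
      have := mul_mem hua hbv
      have e : u * (a * 1 * b) * h * v = u * a * (b * h * v) := by group
      rw [e]; exact this) hg
  · refine ⟨u * a, hua, fun x hx => key x (X_le_Sg (k := 2) (by decide) ?_)⟩
    exact maps_mem' c.maps_n1 hx (by decide)
  · refine ⟨u * a, hua, fun x hx => key x (X_le_Sg (k := 4) (by decide) ?_)⟩
    have h1 : c.n1⁻¹ * x * c.n1 ∈ c.X 2 := maps_mem' c.maps_n1 hx (by decide)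
    have h2 : c.n6⁻¹ * (c.n1⁻¹ * x * c.n1) * c.n6 ∈ c.X 4 := maps_mem' c.maps_n6 h1 (by decide)
    have h3 : c.n1⁻¹ * (c.n6⁻¹ * (c.n1⁻¹ * x * c.n1) * c.n6) * c.n1 ∈ c.X 4 := maps_mem' c.maps_n1 h2 (by decide)
    convert h3 using 1
    group
  · refine absurd ⟨u * a, hua, (c.n1 * (c.n6 * c.n6) * c.n1⁻¹ * (c.n1 * c.n1)) * (b * h * v),
      mul_mem (T0_le_PP c (long_T0 c)) hbv, ?_⟩ hB
    rw [n1_long]
    group

end Cfsg.Agent.H148.HT
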