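import Cfsg.Agent.H912.HT.Dat
import Cfsg.Agent.H384.RG.HexC
import Cfsg.Agent.H148.Gauss
import Cfsg.Agent.Cit.HexCent

/-!
# S4933, `³D₄(q)`, `3 ∣ q + 1`: the parabolic subgroup `P = U · pa SL₂(F) · T0` (helper148)

* `LL c = pa SL₂(F) · T0`, `CC c` the elements of `T0` acting trivially on `X 6`, `PP c = Sg c.X Qb · LL c`;
* `dat : Dat (PP c) (Sg c.X Qb) (LL c) (CC c) (n3 c)`.
-/

set_option autoImplicit false

namespace Cfsg.Agent.H148.HT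

open Cfsg.Agent.SplitTwo Cfsg.Agent.TitsThree.RankTwoZ Cfsg.Agent.Lib.SL2Mat Cfsg.Agent.Cit.HexBase
  Cfsg.Agent.Cit.HexBase.HexGrp Cfsg.Agent.H148.SLTwo Cfsg.Agent.H148.Hex

universe u

variable {E : Type*} [Field E] {σ : E ≃+* E} {L : Type u} [Group L] (c : HexGrp σ L)

/-- the torus normalises `pa SL₂(F)` -/
theorem T0_pa {t : L} (ht : t ∈ c.T0) (y : SL2 ↥(fx σ)) : ∃ y' : SL2 ↥(fx σ), t * c.pa y * t⁻¹ = c.pa y' := by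
  obtain ⟨c1, c6, h⟩ := ht
  exact ⟨_, h.pa y⟩

/-- the Levi complement `pa SL₂(F) · T0` -/
def LL : Subgroup L where
  carrier := {g | ∃ y : SL2 ↥(fx σ), ∃ t ∈ c.T0, g = c.pa y * t}
  mul_mem' := by
    rintro a b ⟨y, t, ht, rfl⟩ ⟨z, s, hs, rfl⟩
    obtain ⟨z', hz'⟩ := T0_pa c ht z
    refine ⟨y * z', t * s, mul_mem ht hs, ?_⟩
    rw [map_mul, ← hz']
    group
  one_mem' := ⟨1, 1, one_mem _, by rw [map_one, one_mul]⟩
  inv_mem' := by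
    rintro a ⟨y, t, ht, rfl⟩
    obtain ⟨z', hz'⟩ := T0_pa c (inv_mem ht) y⁻¹
    refine ⟨z', t⁻¹, inv_mem ht, ?_⟩
    rw [← hz', map_inv]
    group

theorem mem_LL {g : L} : g ∈ LL c ↔ ∃ y : SL2 ↥(fx σ), ∃ t ∈ c.T0, g = c.pa y * t := Iff.rfl

theorem pa_mem_LL (y : SL2 ↥(fx σ)) : c.pa y ∈ LL c := ⟨y, 1, one_mem _, (mul_one _).symm⟩

theorem T0_le_LL : c.T0 ≤ LL c := fun t ht => ⟨1, t, ht, by rw [map_one, one_mul]⟩

/-- the torus elements centralising `X 6` -/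
def CC : Subgroup L where
  carrier := {g | ∃ c1, c.Act g c1 1}
  mul_mem' := by
    rintro a b ⟨c1, h⟩ ⟨d1, h'⟩
    exact ⟨_, (h.mul h').congr rfl rfl (one_mul 1)⟩
  one_mem' := ⟨1, c.act_one⟩
  inv_mem' := by
    rintro a ⟨c1, h⟩
    exact ⟨_, h.inv.congr rfl rfl inv_one⟩

theorem mem_CC {g : L} : g ∈ CC c ↔ ∃ c1, c.Act g c1 1 := Iff.rfl

theorem CC_le_T0 : CC c ≤ c.T0 := fun _ ⟨c1, h⟩ => ⟨c1, 1, h⟩

theorem conjGL_one {K : Type*} [Field K] (h : (1 : K) ≠ 0) (x : SL2 K) : conjGL (dgl 1 h) x = x := by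
  refine ext_ent ?_ ?_ ?_ ?_ <;> simp [conjGL_dgl_ent]

/-- `C` centralises `pa SL₂(F)` -/
theorem CC_pa {g : L} (hg : g ∈ CC c) (y : SL2 ↥(fx σ)) : g * c.pa y * g⁻¹ = c.pa y := by
  obtain ⟨c1, h⟩ := hg
  rw [h.pa]
  congr 1
  exact conjGL_one _ _

theorem CC_comm_LL {g l : L} (hg : g ∈ CC c) (hl : l ∈ LL c) : l * g * l⁻¹ = g := by
  obtain ⟨y, t, ht, rfl⟩ := hl
  have h1 := CC_pa c hg y
  have h2 := c.T0_comm ht (CC_le_T0 c hg)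
  have h3 : c.pa y * g = g * c.pa y := (mul_inv_eq_iff_eq_mul.1 h1).symm
  calc c.pa y * t * g * (c.pa y * t)⁻¹ = c.pa y * (t * g) * t⁻¹ * (c.pa y)⁻¹ := by group
    _ = c.pa y * g * (c.pa y)⁻¹ := by rw [h2]; group
    _ = g := by rw [h3]; group

/-- the Levi complement normalises the radical -/
theorem LL_conj {l g : L} (hl : l ∈ LL c) (hg : g ∈ Sg c.X Qb) : l * g * l⁻¹ ∈ Sg c.X Qb := by
  obtain ⟨y, t, ht, rfl⟩ := hl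
  have h1 := Cfsg.Agent.H384.RG.HexB.pa_Qb_conj (c := c) y (c.T0_conj ht hg)
  have h2 : c.pa y * t * g * (c.pa y * t)⁻¹ = c.pa y * (t * g * t⁻¹) * (c.pa y)⁻¹ := by group
  rw [h2]
  exact h1

/-- the maximal parabolic subgroup -/
def PP : Subgroup L where
  carrier := {g | ∃ u ∈ Sg c.X Qb, ∃ l ∈ LL c, g = u * l}
  mul_mem' := by
    rintro a b ⟨u, hu, l, hl, rfl⟩ ⟨v, hv, m, hm, rfl⟩
    refine ⟨u * (l * v * l⁻¹), mul_mem hu (LL_conj c hl hv), l * m, mul_mem hl hm, ?_⟩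
    group
  one_mem' := ⟨1, one_mem _, 1, one_mem _, (one_mul 1).symm⟩
  inv_mem' := by
    rintro a ⟨u, hu, l, hl, rfl⟩
    refine ⟨l⁻¹ * u⁻¹ * l⁻¹⁻¹, LL_conj c (inv_mem hl) (inv_mem hu), l⁻¹, inv_mem hl, ?_⟩
    group

theorem mem_PP {g : L} : g ∈ PP c ↔ ∃ u ∈ Sg c.X Qb, ∃ l ∈ LL c, g = u * l := Iff.rfl

theorem U_le_PP : Sg c.X Qb ≤ PP c := fun u hu => ⟨u, hu, 1, one_mem _, (mul_one u).symm⟩

theorem LL_le_PP : LL c ≤ PP c := fun l hl => ⟨1, one_mem _, l, hl, (one_mul l).symm⟩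

theorem T0_le_PP : c.T0 ≤ PP c := (T0_le_LL c).trans (LL_le_PP c)

theorem pa_mem_PP (y : SL2 ↥(fx σ)) : c.pa y ∈ PP c := LL_le_PP c (pa_mem_LL c y)

theorem n6_mem_PP : c.n6 ∈ PP c := pa_mem_PP c _

theorem Pos_le_PP : Sg c.X Pos ≤ PP c := by
  intro g hg
  obtain ⟨r, hr, t, rfl⟩ := Cfsg.Agent.H384.RG.HexB.split6 hg
  exact mul_mem (U_le_PP c hr) (pa_mem_PP c _)

theorem PP_norm {p u : L} (hp : p ∈ PP c) (hu : u ∈ Sg c.X Qb) : p * u * p⁻¹ ∈ Sg c.X Qb := by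
  obtain ⟨v, hv, l, hl, rfl⟩ := hp
  have h1 : v * l * u * (v * l)⁻¹ = v * (l * u * l⁻¹) * v⁻¹ := by group
  rw [h1]
  exact mul_mem (mul_mem hv (LL_conj c hl hu)) (inv_mem hv)

end Cfsg.Agent.H148.HT
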